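import Groth.Agent.EtGabber.Local
import Groth.Agent.EtUnitConst.Basic
import Mathlib.Topology.LocallyConstant.Basic

/-!
# Morphisms `ℤ_A → M` for a constant sheaf `M` are locally constant functions on `A`
-/

set_option autoImplicit false

universe u

open CategoryTheory CategoryTheory.Limits AlgebraicGeometry Opposite TopologicalSpace

noncomputable section

namespace Groth.Agent.EtGabber

open Groth.Agent.EtaleSite Groth.Agent.EtMV Groth.Agent.EtConsAb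

variable {X : Scheme.{u}}

/-- Morphisms out of `ℤ` with equal stalk maps at a point agree after pullback to a neighbourhood. -/
theorem exists_nhd_pull_eq {G : EtCoh.Ab X} (a b : EtCoh.const X ℤ ⟶ G) {Ω : Type u} [Field Ω]
    [IsSepClosed Ω] (ξ : Spec (CommRingCat.of Ω) ⟶ X)
    (h : (EtCoh.stalk ξ).map a = (EtCoh.stalk ξ).map b) :
    ∃ D : X.Opens, ξ default ∈ D ∧ ∀ {B : Scheme.{u}} (f : B ⟶ X), Set.range f ⊆ D →
      (EtCore.pullConst f ℤ).inv ≫ (EtCoh.pull f).map a =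
        (EtCore.pullConst f ℤ).inv ≫ (EtCoh.pull f).map b := by
  let T := EtCoh.top X
  obtain ⟨φ, hφ⟩ := exists_fiber_point ξ T (ξ default) rfl
  let s := Flasque.evTop (EtCoh.const X ℤ) (𝟙 _)
  have ha : ∀ c : EtCoh.const X ℤ ⟶ G, Flasque.evTop G c = c.hom.app (op T) s := fun c => by
    conv_lhs => rw [← Category.id_comp c]
    exact Flasque.evTop_comp _ c
  have hg : germ ξ G T φ (Flasque.evTop G a) = germ ξ G T φ (Flasque.evTop G b) := by
    rw [ha, ha, ← germ_naturality, ← germ_naturality, h]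
  obtain ⟨V, k, y, hy, e⟩ := (germ_eq_iff ξ G T φ _ _).1 hg
  obtain ⟨D, hD, e'⟩ := EtUnitConst.exists_piece_eq G k _ _ e (y.left (default : Spec (CommRingCat.of Ω)))
  have hξ : k.left (y.left (default : Spec (CommRingCat.of Ω))) = ξ default := by
    rw [← hφ, ← hy]
    rfl
  refine ⟨D, hξ ▸ hD, fun {B} f hf => (Flasque.evTop_bijective ((EtCoh.pull f).obj G)).1 ?_⟩
  let PD : X.Etale := piece T D
  let l₀ : B ⟶ (D : Scheme.{u}) := IsOpenImmersion.lift (Scheme.Opens.ι D) f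
    (show Set.range f ⊆ Set.range (Scheme.Opens.ι D) from by rintro _ ⟨z, rfl⟩; exact ⟨⟨f z, hf ⟨z, rfl⟩⟩, rfl⟩)
  have hl₀ : l₀ ≫ Scheme.Opens.ι D = f := IsOpenImmersion.lift_fac _ _ _
  have hl₁ : l₀ ≫ PD.hom = 𝟙 B ≫ f :=
    ((congrArg (l₀ ≫ ·) (show PD.hom = Scheme.Opens.ι D from Category.comp_id _)).trans hl₀).trans
      (Category.id_comp f).symm
  let q : EtCoh.top B ⟶ (EtCoh.bc f).obj PD :=
    MorphismProperty.Over.homMk (pullback.lift l₀ (𝟙 B) hl₁) (pullback.lift_snd _ _ _)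
  have hq : ∀ t : G.obj.obj (op T),
      ((EtCoh.pull f).obj G).obj.map (EtCore.bcTopIso f).inv.op
        (((EtCoh.pullPushAdj f).unit.app G).hom.app (op T) t) =
      ((EtCoh.pull f).obj G).obj.map q.op
        (((EtCoh.pullPushAdj f).unit.app G).hom.app (op PD) (G.obj.map (pieceHom T D).op t)) := fun t => by
    refine Eq.trans ?_ (congrArg (fun z => ((EtCoh.pull f).obj G).obj.map q.op z)
      (NatTrans.naturality_apply ((EtCoh.pullPushAdj f).unit.app G).hom (pieceHom T D).op t)).symm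
    exact (res_res ((EtCoh.pull f).obj G) q ((EtCoh.bc f).map (pieceHom T D))
      ((EtCore.bcTopIsTerminal f).hom_ext _ _) _).symm
  rw [evTop_pullConst, evTop_pullConst, hq, hq]
  exact congrArg (fun z => ((EtCoh.pull f).obj G).obj.map q.op
    (((EtCoh.pullPushAdj f).unit.app G).hom.app (op PD) z)) e'

/-- Morphisms out of `ℤ_A` with equal stalk maps at a point of `A` agree near it. -/
theorem exists_nhd_gLE_eq {A : X.Opens} {G : EtCoh.Ab X} (φ ψ : ZO A ⟶ G) {Ω : Type u} [Field Ω]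
    [IsSepClosed Ω] (ξ : Spec (CommRingCat.of Ω) ⟶ X) (hξ : ξ default ∈ A)
    (h : (EtCoh.stalk ξ).map φ = (EtCoh.stalk ξ).map ψ) :
    ∃ (B : X.Opens) (hle : B ≤ A), ξ default ∈ B ∧ gLE hle ≫ φ = gLE hle ≫ ψ := by
  obtain ⟨ζ, rfl⟩ := exists_lift A.ι ξ (by rw [Scheme.Opens.range_ι]; exact hξ)
  have hst : ∀ k : ZO A ⟶ G, (EtCoh.stalk ζ).map ((EtCoh.pull A.ι).map k) =
      (stalkPullIso A.ι ζ).hom.app _ ≫ (EtCoh.stalk (ζ ≫ A.ι)).map k ≫ (stalkPullIso A.ι ζ).inv.app _ := by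
    intro k
    exact (NatIso.naturality_2 (stalkPullIso A.ι ζ) k).symm
  have h' : (EtCoh.stalk ζ).map ((EtSupp.extPullAdj A.ι).homEquiv _ _ φ) =
      (EtCoh.stalk ζ).map ((EtSupp.extPullAdj A.ι).homEquiv _ _ ψ) := by
    rw [Adjunction.homEquiv_unit, Adjunction.homEquiv_unit, Functor.map_comp, Functor.map_comp,
      hst, hst, h]
  obtain ⟨D, hD, hpull⟩ := exists_nhd_pull_eq _ _ ζ h'
  have hle : A.ι ''ᵁ D ≤ A := by
    rintro _ ⟨z, -, rfl⟩
    exact z.2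
  refine ⟨A.ι ''ᵁ D, hle, ⟨ζ default, hD, rfl⟩, ?_⟩
  apply ((EtSupp.extPullAdj (A.ι ''ᵁ D).ι).homEquiv _ _).injective
  rw [gLE, homEquiv_gMap_comp, homEquiv_gMap_comp]
  have := hpull (X.homOfLE hle) (by
    rintro _ ⟨b, rfl⟩
    obtain ⟨z, hz, e⟩ := b.2
    have : X.homOfLE hle b = z := Subtype.ext ((Scheme.homOfLE_apply hle b).trans e.symm)
    rw [this]
    exact hz)
  exact (Category.assoc _ _ _).symm.trans ((congrArg (fun z => z ≫ _) this).trans (Category.assoc _ _ _))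

/-- Morphisms out of `ℤ_A` are determined locally. -/
theorem hom_ext_ZO {A : X.Opens} {G : EtCoh.Ab X} (φ ψ : ZO A ⟶ G)
    (h : ∀ x ∈ A, ∃ (B : X.Opens) (hle : B ≤ A), x ∈ B ∧ gLE hle ≫ φ = gLE hle ≫ ψ) : φ = ψ := by
  refine hom_ext_of_stalk fun Ω _ _ ξ => ?_
  by_cases hx : ξ default ∈ A
  · obtain ⟨B, hle, hB, e⟩ := h _ hx
    have := isIso_stalk_gLE ξ hle hB
    rw [← cancel_epi ((EtCoh.stalk ξ).map (gLE hle)), ← Functor.map_comp, ← Functor.map_comp, e]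
  · exact (isZero_stalk_ZO ξ hx).eq_of_src _ _

variable (M : Type (u + 1)) [AddCommGroup M]

/-- The morphism `ℤ → M` at `c`. -/
def kap (c : M) : EtCoh.const X ℤ ⟶ constAb M X :=
  ((Flasque.evTop_bijective (constAb M X)).2 (constSect M (EtCoh.top X) c)).choose

theorem evTop_kap (c : M) :
    Flasque.evTop (constAb M X) (kap M c) = constSect M (EtCoh.top X) c :=
  ((Flasque.evTop_bijective (constAb M X)).2 (constSect M (EtCoh.top X) c)).choose_spec

/-- `φ` is the constant `c` on `B`. -/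
def IsConstOn {A : X.Opens} (φ : ZO A ⟶ constAb M X) (c : M) (B : X.Opens) : Prop :=
  ∃ h : B ≤ A, gLE h ≫ φ = cMap B.ι ≫ kap M c

theorem IsConstOn.mono {A : X.Opens} {φ : ZO A ⟶ constAb M X} {c : M} {B B' : X.Opens} (hB : B' ≤ B)
    (h : IsConstOn M φ c B) : IsConstOn M φ c B' := by
  obtain ⟨hle, e⟩ := h
  refine ⟨hB.trans hle, ?_⟩
  rw [← gLE_comp hB hle, Category.assoc, e, ← Category.assoc, gLE_cMap]

theorem exists_isConstOn {A : X.Opens} (φ : ZO A ⟶ constAb M X) {x : X} (hx : x ∈ A) :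
    ∃ (c : M) (B : X.Opens), x ∈ B ∧ IsConstOn M φ c B := by
  let ξ := geomPointAt X x
  have hξ : ξ default = x := geomPointAt_apply _ _ _
  obtain ⟨ψ, -⟩ := exists_fiber_point ξ (EtCoh.top X) (ξ default) rfl
  have := isIso_stalk_cMap ξ (A := A) (by rw [hξ]; exact hx)
  let k := inv ((EtCoh.stalk ξ).map (cMap A.ι)) ≫ (EtCoh.stalk ξ).map φ
  let g₁ := germ ξ (EtCoh.const X ℤ) (EtCoh.top X) ψ (Flasque.evTop (EtCoh.const X ℤ) (𝟙 _))
  obtain ⟨c, hc⟩ := (isTriv_constSect M (EtCoh.top X) _ ξ ψ).2 (k g₁)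
  have hk : (EtCoh.stalk ξ).map (kap M c) = k := by
    have hgen : ∀ z : ↑((EtCoh.stalk ξ).obj (EtCoh.const X ℤ)), ∃ n : ℤ, z = n • g₁ := by
      intro z
      obtain ⟨⟨n⟩, rfl⟩ := (isTriv_constSect (ULift.{u + 1} ℤ) (EtCoh.top X) _ ξ ψ).2 z
      refine ⟨n, ?_⟩
      have hn : (ULift.up n : ULift.{u + 1} ℤ) = n • ULift.up 1 := ULift.ext _ _ (by simp)
      have h1 : Flasque.evTop (EtCoh.const X ℤ) (𝟙 _) =
          constSect (ULift.{u + 1} ℤ) (EtCoh.top X) (ULift.up 1) :=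
        ConcreteCategory.congr_hom (((EtCore.constAdj X).homEquiv_id (AddCommGrpCat.of (ULift.{u + 1} ℤ))).trans
          (by simp [EtCore.constAdj, constantSheafAdj, constantPresheafAdj, Adjunction.comp_unit_app]; rfl :
            (EtCore.constAdj X).unit.app (AddCommGrpCat.of (ULift.{u + 1} ℤ)) =
              AddCommGrpCat.ofHom (constSect (ULift.{u + 1} ℤ) (EtCoh.top X)))) (ULift.up 1)
      simp only [g₁, h1]
      rw [hn, map_zsmul, map_zsmul]
    refine AddCommGrpCat.hom_ext (AddMonoidHom.ext fun z => ?_)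
    obtain ⟨n, rfl⟩ := hgen z
    rw [map_zsmul, map_zsmul]
    refine congrArg (n • ·) ?_
    rw [← hc]
    show (EtCoh.stalk ξ).map (kap M c) g₁ = _
    rw [germ_naturality, ← Flasque.evTop_comp, Category.id_comp, evTop_kap]
  have hst : (EtCoh.stalk ξ).map φ = (EtCoh.stalk ξ).map (cMap A.ι ≫ kap M c) := by
    rw [Functor.map_comp, hk, IsIso.hom_inv_id_assoc]
  obtain ⟨B, hle, hB, e⟩ := exists_nhd_gLE_eq φ _ ξ (by rw [hξ]; exact hx) hst
  exact ⟨c, B, hξ ▸ hB, hle, by rw [e, ← Category.assoc, gLE_cMap]⟩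

theorem IsConstOn.unique {A : X.Opens} {φ : ZO A ⟶ constAb M X} {c c' : M} {B B' : X.Opens}
    (h : IsConstOn M φ c B) (h' : IsConstOn M φ c' B') {x : X} (hx : x ∈ B) (hx' : x ∈ B') : c = c' := by
  obtain ⟨hle, e⟩ := h.mono M (inf_le_left : B ⊓ B' ≤ B)
  obtain ⟨_, e'⟩ := h'.mono M (inf_le_right : B ⊓ B' ≤ B')
  let ξ := geomPointAt X x
  have hξ : ξ default = x := geomPointAt_apply _ _ _
  have := isIso_stalk_cMap ξ (A := B ⊓ B') (by rw [hξ]; exact ⟨hx, hx'⟩)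
  have h2 : (EtCoh.stalk ξ).map (kap M c) = (EtCoh.stalk ξ).map (kap M c') := by
    rw [← cancel_epi ((EtCoh.stalk ξ).map (cMap (B ⊓ B').ι)), ← Functor.map_comp, ← Functor.map_comp,
      ← e, ← e']
  obtain ⟨ψ, -⟩ := exists_fiber_point ξ (EtCoh.top X) (ξ default) rfl
  refine (isTriv_constSect M (EtCoh.top X) _ ξ ψ).1 ?_
  show germ ξ _ _ ψ (constSect M _ c) = germ ξ _ _ ψ (constSect M _ c')
  rw [← evTop_kap, ← evTop_kap, ← Category.id_comp (kap M c), ← Category.id_comp (kap M c'),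
    Flasque.evTop_comp, Flasque.evTop_comp, ← germ_naturality, ← germ_naturality, h2]

/-- The locally constant function of a morphism. -/
theorem exists_fun {A : X.Opens} (φ : ZO A ⟶ constAb M X) :
    ∃ c : X → M, ∀ x ∈ A, ∃ B : X.Opens, x ∈ B ∧ IsConstOn M φ (c x) B ∧ ∀ y ∈ B, c y = c x := by
  classical
  let c : X → M := fun x => if hx : x ∈ A then (exists_isConstOn M φ hx).choose else 0
  refine ⟨c, fun x hx => ?_⟩
  obtain ⟨B, hxB, hB⟩ := (exists_isConstOn M φ hx).choose_spec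
  have hcx : c x = (exists_isConstOn M φ hx).choose := dif_pos hx
  refine ⟨B, hxB, hcx ▸ hB, fun y hy => ?_⟩
  have hyA : y ∈ A := hB.choose hy
  obtain ⟨B', hyB', hB'⟩ := (exists_isConstOn M φ hyA).choose_spec
  rw [show c y = (exists_isConstOn M φ hyA).choose from dif_pos hyA, hcx]
  exact hB'.unique M hB hyB' hy

/-- A map out of the middle of a short exact sequence killing the kernel factors. -/
theorem exists_desc {C : Type*} [Category C] [Abelian C] {W P Q T G : C} {f : W ⟶ P ⊞ Q} {a : P ⟶ T}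
    {b : Q ⟶ T} {w : f ≫ biprod.desc a b = 0}
    (hS : (ShortComplex.mk f (biprod.desc a b) w).ShortExact) (hW : IsZero W) (φ : P ⟶ G) (ψ : Q ⟶ G) :
    ∃ χ : T ⟶ G, a ≫ χ = φ ∧ b ≫ χ = ψ := by
  obtain ⟨χ, hχ⟩ := CokernelCofork.IsColimit.desc' hS.gIsCokernel (biprod.desc φ ψ) (hW.eq_of_src _ _)
  have hχ' : biprod.desc a b ≫ χ = biprod.desc φ ψ := hχ
  refine ⟨χ, ?_, ?_⟩
  · rw [← biprod.inl_desc a b, Category.assoc, hχ', biprod.inl_desc]
  · rw [← biprod.inr_desc a b, Category.assoc, hχ', biprod.inr_desc]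

/-- Morphisms on disjoint opens glue. -/
theorem exists_glue_hom {P Q T : X.Opens} (hP : P ≤ T) (hQ : Q ≤ T)
    (hd : ∀ x, x ∈ P → x ∈ Q → x ∈ (⊥ : X.Opens)) (hc : ∀ x ∈ T, x ∈ P ∨ x ∈ Q) {G : EtCoh.Ab X}
    (φ : ZO P ⟶ G) (ψ : ZO Q ⟶ G) : ∃ χ : ZO T ⟶ G, gLE hP ≫ χ = φ ∧ gLE hQ ≫ χ = ψ :=
  exists_desc (shortExact_seqRel hP hQ (bot_le : (⊥ : X.Opens) ≤ P) bot_le hd hc)
    (isZero_ZO_of_isEmpty fun _ hx => hx) φ ψ

/-- A finite-valued locally constant function gives a morphism. -/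
theorem exists_hom {A : X.Opens} (c : X → M) (hfin : (c '' (A : Set X)).Finite)
    (hc : ∀ x ∈ A, ∃ B : X.Opens, x ∈ B ∧ ∀ y ∈ B, y ∈ A → c y = c x) :
    ∃ φ : ZO A ⟶ constAb M X, ∀ B : X.Opens, B ≤ A → ∀ m, (∀ y ∈ B, c y = m) → IsConstOn M φ m B := by
  classical
  have hpiece : ∀ s : Finset M, ∃ (P : X.Opens) (φ : ZO P ⟶ constAb M X), P ≤ A ∧
      (∀ x, x ∈ P ↔ x ∈ A ∧ c x ∈ s) ∧ ∀ B : X.Opens, B ≤ P → ∀ m, (∀ y ∈ B, c y = m) →
        IsConstOn M φ m B := by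
    have hopen : ∀ S : Set M, IsOpen {x | x ∈ A ∧ c x ∈ S} := fun S => by
      refine isOpen_iff_forall_mem_open.2 fun x hx => ?_
      obtain ⟨B, hxB, hB⟩ := hc x hx.1
      exact ⟨(B : Set X) ∩ A, fun y hy => ⟨hy.2, by rw [hB y hy.1 hy.2]; exact hx.2⟩, B.2.inter A.2,
        hxB, hx.1⟩
    intro s
    induction s using Finset.induction_on with
    | empty =>
      refine ⟨⊥, 0, bot_le, fun x => by simp, fun B hB m _ => ⟨hB, ?_⟩⟩
      rw [comp_zero]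
      exact (isZero_ZO_of_isEmpty fun x hx => (hB hx : x ∈ (⊥ : X.Opens))).eq_of_src _ _
    | @insert m₀ s hm₀ ih =>
      obtain ⟨P, φ, hPA, hP, hφ⟩ := ih
      let Q : X.Opens := ⟨{x | x ∈ A ∧ c x ∈ ({m₀} : Set M)}, hopen _⟩
      let T : X.Opens := ⟨{x | x ∈ A ∧ c x ∈ (insert m₀ s : Finset M)}, hopen (insert m₀ s : Finset M)⟩
      have hPT : P ≤ T := fun x hx => ⟨((hP x).1 hx).1, Finset.mem_insert_of_mem ((hP x).1 hx).2⟩
      have hQT : Q ≤ T := fun x hx => ⟨hx.1, Finset.mem_insert.2 (Or.inl hx.2)⟩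
      have hO : ∀ x, x ∈ P → x ∈ Q → x ∈ (⊥ : X.Opens) := fun x hxP hxQ =>
        absurd ((hxQ.2 : c x = m₀) ▸ ((hP x).1 hxP).2) hm₀
      obtain ⟨χ, hχP, hχQ⟩ := exists_glue_hom hPT hQT hO
        (fun x hx => (Finset.mem_insert.1 hx.2).symm.imp (fun h => (hP x).2 ⟨hx.1, h⟩) fun h => ⟨hx.1, h⟩)
        φ (cMap Q.ι ≫ kap M m₀)
      refine ⟨T, χ, fun x hx => hx.1, fun x => Iff.rfl, fun B hB m hm => ⟨hB, ?_⟩⟩
      by_cases hmm : m = m₀
      · subst hmm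
        have hBQ : B ≤ Q := fun y hy => ⟨(hB hy).1, hm y hy⟩
        rw [← gLE_comp hBQ hQT, Category.assoc, hχQ, ← Category.assoc, gLE_cMap]
      · have hBP : B ≤ P := fun y hy => (hP y).2 ⟨(hB hy).1,
          (Finset.mem_insert.1 (hB hy).2).resolve_left (fun e => hmm ((hm y hy).symm.trans e))⟩
        obtain ⟨_, e⟩ := hφ B hBP m hm
        rw [← gLE_comp hBP hPT, Category.assoc, hχP, e]
  obtain ⟨P, φ, hPA, hP, hφ⟩ := hpiece hfin.toFinset
  have hAP : A ≤ P := fun x hx => (hP x).2 ⟨hx, hfin.mem_toFinset.2 ⟨x, hx, rfl⟩⟩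
  refine ⟨gLE hAP ≫ φ, fun B hB m hm => ⟨hB, ?_⟩⟩
  obtain ⟨_, e⟩ := hφ B (hB.trans hAP) m hm
  rw [← Category.assoc, gLE_comp, e]

end Groth.Agent.EtGabber
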