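import Groth.Agent.FEtCat.Sigma
import Groth.Agent.LimLib.Glue
import Mathlib.AlgebraicGeometry.Morphisms.Finite

/-!
# Splitting locally constant cocycles when every finite étale cover has a section
-/

set_option autoImplicit false

universe u

open CategoryTheory CategoryTheory.Limits AlgebraicGeometry Opposite TopologicalSpace

noncomputable section

namespace Groth.Agent.EtGabber

variable {Z : Scheme.{u}} {U V : Z.Opens}

/-- A function into a discrete group that is locally constant on an open. -/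
def LocConstOn {α : Type*} (c : Z → α) (A : Z.Opens) : Prop :=
  ∀ x ∈ A, ∃ B : Z.Opens, x ∈ B ∧ ∀ y ∈ B, y ∈ A → c y = c x

theorem exists_sub_eq (hsec : ∀ (Y : Scheme.{u}) (φ : Y ⟶ Z), IsFinite φ → Etale φ → Surjective φ →
      ∃ s : Z ⟶ Y, s ≫ φ = 𝟙 Z)
    (hcov : ∀ x : Z, x ∈ U ∨ x ∈ V) {M : Type u} [AddCommGroup M] [Finite M] (c : Z → M)
    (hc : LocConstOn c (U ⊓ V)) :
    ∃ a b : Z → M, LocConstOn a U ∧ LocConstOn b V ∧ ∀ x, x ∈ U → x ∈ V → b x - a x = c x := by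
  classical
  let C : M → Z.Opens := fun k => ⟨{x | x ∈ U ⊓ V ∧ c x = k}, by
    refine isOpen_iff_forall_mem_open.2 fun x hx => ?_
    obtain ⟨B, hxB, hB⟩ := hc x hx.1
    exact ⟨(B : Set Z) ∩ (U ⊓ V : Z.Opens), fun y hy => ⟨hy.2, (hB y hy.1 hy.2).trans hx.2⟩,
      B.2.inter (U ⊓ V).2, hxB, hx.1⟩⟩
  have hCU : ∀ k, C k ≤ U := fun k x hx => hx.1.1
  have hCV : ∀ k, C k ≤ V := fun k x hx => hx.1.2
  let P := (∐ fun _ : M => (U : Scheme.{u}))
  let Q := (∐ fun _ : M => (V : Scheme.{u}))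
  let iP : M → ((U : Scheme.{u}) ⟶ P) := Limits.Sigma.ι (fun _ : M => (U : Scheme.{u}))
  let iQ : M → ((V : Scheme.{u}) ⟶ Q) := Limits.Sigma.ι (fun _ : M => (V : Scheme.{u}))
  let hP' : P ⟶ (U : Scheme.{u}) := Limits.Sigma.desc fun _ : M => 𝟙 (U : Scheme.{u})
  let hQ' : Q ⟶ (V : Scheme.{u}) := Limits.Sigma.desc fun _ : M => 𝟙 (V : Scheme.{u})
  have hiP : ∀ m, iP m ≫ hP' = 𝟙 _ := fun m => Limits.Sigma.ι_desc _ _
  have hiQ : ∀ m, iQ m ≫ hQ' = 𝟙 _ := fun m => Limits.Sigma.ι_desc _ _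
  have hPx : ∀ m y, hP' (iP m y) = y := fun m y => by
    rw [← Scheme.Hom.comp_apply, hiP]; rfl
  have hQx : ∀ m y, hQ' (iQ m y) = y := fun m y => by
    rw [← Scheme.Hom.comp_apply, hiQ]; rfl
  let R := (∐ fun mk : M × M => (C mk.2 : Scheme.{u}))
  let α : ∀ mk : M × M, (C mk.2 : Scheme.{u}) ⟶ P := fun mk => Z.homOfLE (hCU mk.2) ≫ iP mk.1
  let β : ∀ mk : M × M, (C mk.2 : Scheme.{u}) ⟶ Q := fun mk => Z.homOfLE (hCV mk.2) ≫ iQ (mk.1 + mk.2)
  have hαpt : ∀ mk z, (hP' (α mk z)).1 = z.1 := fun mk z => by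
    rw [Scheme.Hom.comp_apply, hPx]
    exact Scheme.homOfLE_apply _ z
  have hβpt : ∀ mk z, (hQ' (β mk z)).1 = z.1 := fun mk z => by
    rw [Scheme.Hom.comp_apply, hQx]
    exact Scheme.homOfLE_apply _ z
  have hdα : Pairwise (Function.onFun Disjoint (fun mk => Set.range (α mk))) := by
    rintro ⟨m, k⟩ ⟨m', k'⟩ hne
    refine Set.disjoint_left.2 ?_
    rintro _ ⟨z, rfl⟩ ⟨z', h⟩
    have h1 : z'.1 = z.1 := by rw [← hαpt (m', k') z', h, hαpt (m, k) z]
    have h2 : k' = k := z'.2.2.symm.trans ((congrArg c h1).trans z.2.2)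
    have h3 : m' = m := FEtCat.Sigma.ι_injective (Y := (U : Scheme.{u}))
      (x := Z.homOfLE (hCU k') z') (y := Z.homOfLE (hCU k) z) h
    exact hne (by rw [h2, h3])
  have hdβ : Pairwise (Function.onFun Disjoint (fun mk => Set.range (β mk))) := by
    rintro ⟨m, k⟩ ⟨m', k'⟩ hne
    refine Set.disjoint_left.2 ?_
    rintro _ ⟨z, rfl⟩ ⟨z', h⟩
    have h1 : z'.1 = z.1 := by rw [← hβpt (m', k') z', h, hβpt (m, k) z]
    have h2 : k' = k := z'.2.2.symm.trans ((congrArg c h1).trans z.2.2)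
    have h3 : m' + k' = m + k := FEtCat.Sigma.ι_injective (Y := (V : Scheme.{u}))
      (x := Z.homOfLE (hCV k') z') (y := Z.homOfLE (hCV k) z) h
    rw [h2] at h3
    exact hne (by rw [h2, add_right_cancel h3])
  let f : R ⟶ P := Limits.Sigma.desc α
  let g : R ⟶ Q := Limits.Sigma.desc β
  have : IsOpenImmersion f := isOpenImmersion_sigmaDesc _ α hdα
  have : IsOpenImmersion g := isOpenImmersion_sigmaDesc _ β hdβ
  have w : f ≫ hP' ≫ U.ι = g ≫ hQ' ≫ V.ι := by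
    refine Limits.Sigma.hom_ext _ _ fun mk => ?_
    rw [Limits.Sigma.ι_desc_assoc, Limits.Sigma.ι_desc_assoc, Category.assoc, Category.assoc,
      reassoc_of% (hiP mk.1), reassoc_of% (hiQ (mk.1 + mk.2)), Scheme.homOfLE_ι, Scheme.homOfLE_ι]
  have hf : ∀ p : P, U.ι (hP' p) ∈ V → p ∈ Set.range f := by
    intro p hp
    obtain ⟨m, y, rfl⟩ := FEtCat.Sigma.exists_range_ι p
    rw [hPx m y] at hp
    refine ⟨Limits.Sigma.ι (fun mk : M × M => (C mk.2 : Scheme.{u})) (m, c y.1) ⟨y.1, ⟨y.2, hp⟩, rfl⟩, ?_⟩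
    rw [← Scheme.Hom.comp_apply, Limits.Sigma.ι_desc, Scheme.Hom.comp_apply]
    exact congrArg (iP m) (Subtype.ext (Scheme.homOfLE_apply _ _))
  have hg : ∀ q : Q, V.ι (hQ' q) ∈ U → q ∈ Set.range g := by
    intro q hq
    obtain ⟨m, y, rfl⟩ := FEtCat.Sigma.exists_range_ι q
    rw [hQx m y] at hq
    refine ⟨Limits.Sigma.ι (fun mk : M × M => (C mk.2 : Scheme.{u})) (m - c y.1, c y.1)
      ⟨y.1, ⟨hq, y.2⟩, rfl⟩, ?_⟩
    rw [← Scheme.Hom.comp_apply, Limits.Sigma.ι_desc, Scheme.Hom.comp_apply, sub_add_cancel]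
    exact congrArg (iQ m) (Subtype.ext (Scheme.homOfLE_apply _ _))
  let T := pushout f g
  let p : T ⟶ Z := pushout.desc (hP' ≫ U.ι) (hQ' ≫ V.ι) w
  have hinl : pushout.inl f g ≫ p = hP' ≫ U.ι := pushout.inl_desc _ _ _
  have hinr : pushout.inr f g ≫ p = hQ' ≫ V.ι := pushout.inr_desc _ _ _
  have pl : ∀ y, p (pushout.inl f g y) = (hP' y).1 := fun y => by
    rw [← Scheme.Hom.comp_apply, hinl]; rfl
  have pr : ∀ y, p (pushout.inr f g y) = (hQ' y).1 := fun y => by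
    rw [← Scheme.Hom.comp_apply, hinr]; rfl
  have hcovT : ∀ z : T, (∃ y, pushout.inl f g y = z) ∨ ∃ y, pushout.inr f g y = z := fun z =>
    Opens.mem_sup.mp ((LimLib.pushout_opensRange_sup f g).ge (trivial : z ∈ (⊤ : T.Opens)))
  have hrl : ∀ z : T, p z ∈ U → ∃ y, pushout.inl f g y = z := fun z hz => by
    obtain h | ⟨y, rfl⟩ := hcovT z
    · exact h
    · rw [pr] at hz
      obtain ⟨r, rfl⟩ := hg y hz
      exact ⟨f r, by rw [← Scheme.Hom.comp_apply, pushout.condition, Scheme.Hom.comp_apply]⟩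
  have hrr : ∀ z : T, p z ∈ V → ∃ y, pushout.inr f g y = z := fun z hz => by
    obtain ⟨y, rfl⟩ | h := hcovT z
    · rw [pl] at hz
      obtain ⟨r, rfl⟩ := hf y hz
      exact ⟨g r, by rw [← Scheme.Hom.comp_apply, ← pushout.condition, Scheme.Hom.comp_apply]⟩
    · exact h
  have hP : IsPullback hP' (pushout.inl f g) U.ι p := by
    refine IsOpenImmersion.isPullback _ _ _ _ hinl (le_antisymm (fun z hz => ?_) ?_)
    · obtain ⟨y, hy⟩ := hz
      exact hrl z (by rw [← hy]; exact y.2)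
    · rintro _ ⟨y, rfl⟩
      exact ⟨hP' y, (pl y).symm⟩
  have hQ : IsPullback hQ' (pushout.inr f g) V.ι p := by
    refine IsOpenImmersion.isPullback _ _ _ _ hinr (le_antisymm (fun z hz => ?_) ?_)
    · obtain ⟨y, hy⟩ := hz
      exact hrr z (by rw [← hy]; exact y.2)
    · rintro _ ⟨y, rfl⟩
      exact ⟨hQ' y, (pr y).symm⟩
  let 𝒰 : Z.OpenCover := Z.openCoverOfIsOpenCover (fun t : Bool => bif t then U else V)
    (eq_top_iff.2 fun x _ => Opens.mem_iSup.2 ((hcov x).elim (fun h => ⟨true, h⟩) fun h => ⟨false, h⟩))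
  have hres : ∀ (W : MorphismProperty Scheme.{u}) [W.RespectsIso], W hP' → W hQ' →
      ∀ t, W (pullback.snd p (𝒰.f t)) := by
    intro W _ hWP hWQ t
    cases t
    · change W (pullback.snd p V.ι)
      rw [← W.cancel_left_of_respectsIso hQ.flip.isoPullback.hom, hQ.flip.isoPullback_hom_snd]
      exact hWQ
    · change W (pullback.snd p U.ι)
      rw [← W.cancel_left_of_respectsIso hP.flip.isoPullback.hom, hP.flip.isoPullback_hom_snd]
      exact hWP
  have hfin : IsFinite p := IsZariskiLocalAtTarget.of_openCover 𝒰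
    (hres @IsFinite (FEtCat.Sigma.isFinite_fold) (FEtCat.Sigma.isFinite_fold))
  have het : Etale p := IsZariskiLocalAtTarget.of_openCover 𝒰
    (hres @Etale (FEtCat.Sigma.etale_fold) (FEtCat.Sigma.etale_fold))
  have hsurj : Surjective p := ⟨fun x => (hcov x).elim
    (fun h => ⟨pushout.inl f g (iP 0 ⟨x, h⟩), by rw [pl, hPx]⟩)
    fun h => ⟨pushout.inr f g (iQ 0 ⟨x, h⟩), by rw [pr, hQx]⟩⟩
  obtain ⟨s, hs⟩ := hsec T p hfin het hsurj
  have hps : ∀ x, p (s x) = x := fun x => by rw [← Scheme.Hom.comp_apply, hs]; rfl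
  have key₁ : ∀ x ∈ U, ∃ (m : M) (y : U), pushout.inl f g (iP m y) = s x := fun x hx => by
    obtain ⟨q, hq⟩ := hrl (s x) (by rw [hps]; exact hx)
    obtain ⟨m, y, rfl⟩ := FEtCat.Sigma.exists_range_ι q
    exact ⟨m, y, hq⟩
  have key₂ : ∀ x ∈ V, ∃ (m : M) (y : V), pushout.inr f g (iQ m y) = s x := fun x hx => by
    obtain ⟨q, hq⟩ := hrr (s x) (by rw [hps]; exact hx)
    obtain ⟨m, y, rfl⟩ := FEtCat.Sigma.exists_range_ι q
    exact ⟨m, y, hq⟩
  let a : Z → M := fun x => if h : x ∈ U then (key₁ x h).choose else 0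
  let b : Z → M := fun x => if h : x ∈ V then (key₂ x h).choose else 0
  have ha : ∀ x m (y : U), x ∈ U → pushout.inl f g (iP m y) = s x → a x = m := fun x m y hx h => by
    obtain ⟨y', hy'⟩ := (key₁ x hx).choose_spec
    rw [show a x = (key₁ x hx).choose from dif_pos hx]
    exact FEtCat.Sigma.ι_injective ((pushout.inl f g).isOpenEmbedding.injective (hy'.trans h.symm))
  have hb : ∀ x m (y : V), x ∈ V → pushout.inr f g (iQ m y) = s x → b x = m := fun x m y hx h => by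
    obtain ⟨y', hy'⟩ := (key₂ x hx).choose_spec
    rw [show b x = (key₂ x hx).choose from dif_pos hx]
    exact FEtCat.Sigma.ι_injective ((pushout.inr f g).isOpenEmbedding.injective (hy'.trans h.symm))
  refine ⟨a, b, fun x hx => ?_, fun x hx => ?_, fun x hxU hxV => ?_⟩
  · obtain ⟨m, y, hy⟩ := key₁ x hx
    refine ⟨s ⁻¹ᵁ (iP m ≫ pushout.inl f g).opensRange, ⟨y, by rw [Scheme.Hom.comp_apply]; exact hy⟩,
      fun z hz hzU => ?_⟩
    obtain ⟨y', hy'⟩ := hz
    rw [Scheme.Hom.comp_apply] at hy'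
    rw [ha z m y' hzU hy', ha x m y hx hy]
  · obtain ⟨m, y, hy⟩ := key₂ x hx
    refine ⟨s ⁻¹ᵁ (iQ m ≫ pushout.inr f g).opensRange, ⟨y, by rw [Scheme.Hom.comp_apply]; exact hy⟩,
      fun z hz hzU => ?_⟩
    obtain ⟨y', hy'⟩ := hz
    rw [Scheme.Hom.comp_apply] at hy'
    rw [hb z m y' hzU hy', hb x m y hx hy]
  · obtain ⟨m, y, hy⟩ := key₁ x hxU
    obtain ⟨m', y', hy'⟩ := key₂ x hxV
    rw [ha x m y hxU hy, hb x m' y' hxV hy']
    have hyx : y.1 = x := by rw [← hPx m y, ← pl, hy, hps]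
    obtain ⟨r, hr⟩ := hf (iP m y) (by rw [hPx]; show y.1 ∈ V; rw [hyx]; exact hxV)
    obtain ⟨⟨⟨n, k⟩, z⟩, rfl⟩ := (sigmaMk fun mk : M × M => (C mk.2 : Scheme.{u})).surjective r
    rw [sigmaMk_mk] at hr
    have hr' : α (n, k) z = iP m y := by
      rw [← hr, ← Scheme.Hom.comp_apply, Limits.Sigma.ι_desc]
    have hnm : n = m := FEtCat.Sigma.ι_injective (Y := (U : Scheme.{u}))
      (x := Z.homOfLE (hCU k) z) (y := y) hr'
    have hzx : z.1 = x := by rw [← hαpt (n, k) z, hr', hPx, hyx]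
    have hq : β (n, k) z = iQ m' y' := by
      apply (pushout.inr f g).isOpenEmbedding.injective
      have e : g (Limits.Sigma.ι (fun mk : M × M => (C mk.2 : Scheme.{u})) (n, k) z) = β (n, k) z := by
        rw [← Scheme.Hom.comp_apply, Limits.Sigma.ι_desc]
      rw [hy', ← hy, ← hr, ← e, ← Scheme.Hom.comp_apply, ← Scheme.Hom.comp_apply,
        ← Scheme.Hom.comp_apply, ← Scheme.Hom.comp_apply, pushout.condition]
    have hnk : n + k = m' := FEtCat.Sigma.ι_injective (Y := (V : Scheme.{u}))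
      (x := Z.homOfLE (hCV k) z) (y := y') hq
    rw [← hnk, ← hzx, z.2.2, hnm, add_sub_cancel_left]

end Groth.Agent.EtGabber
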