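import Groth.Agent.EtGabber.Main
import Groth.Agent.EtGabber.ConstHom
import Groth.Agent.EtGabber.TorsorGlue
import Groth.Agent.EtSection.ClosedSplit
import Groth.Agent.EtaleSite.HpullComp
import Groth.Agent.EtZarFlasque.Const

/-!
# `H¹` of constant sheaves on closed subschemes of affine normal schemes with separably closed
function field
-/

set_option autoImplicit false

universe u

open CategoryTheory CategoryTheory.Limits AlgebraicGeometry Opposite TopologicalSpace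

noncomputable section

namespace Groth.Agent.EtGabber

open Groth.Agent.EtaleSite Groth.Agent.EtMV Groth.Agent.EtConsAb

variable {X : Scheme.{u}} {M : Type (u + 1)} [AddCommGroup M]

theorem kap_sub (c d : M) : kap (X := X) M (c - d) = kap M c - kap M d := by
  have ev : ∀ φ : EtCoh.const X ℤ ⟶ constAb M X, Flasque.evTop (constAb M X) φ =
      φ.hom.app (op (EtCoh.top X)) (Flasque.evTop (EtCoh.const X ℤ) (𝟙 _)) := fun φ => by
    conv_lhs => rw [← Category.id_comp φ]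
    exact Flasque.evTop_comp _ φ
  apply (Flasque.evTop_bijective (constAb M X)).1
  rw [evTop_kap, map_sub, ← evTop_kap, ← evTop_kap, ev (kap M c), ev (kap M d), ev (kap M c - kap M d)]
  rfl

/-- Classes in the image of `desc` are killed by the connecting map. -/
theorem extClass_comp_eq_zero {C : Type*} [Category C] [Abelian C] [HasExt.{u + 1} C] {O P Q T G : C}
    {a : O ⟶ P} {b : O ⟶ Q} {c : P ⟶ T} {d : Q ⟶ T} {w : biprod.lift a (-b) ≫ biprod.desc c d = 0}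
    (hS : (ShortComplex.mk (biprod.lift a (-b)) (biprod.desc c d) w).ShortExact) (p : P ⟶ G)
    (q : Q ⟶ G) : hS.extClass.comp (Abelian.Ext.mk₀ (b ≫ q - a ≫ p)) (add_comm 1 0) = 0 := by
  have : b ≫ q - a ≫ p = biprod.lift a (-b) ≫ biprod.desc (-p) (-q) := by
    rw [biprod.lift_desc, Preadditive.comp_neg, Preadditive.neg_comp, Preadditive.comp_neg, neg_neg,
      sub_eq_neg_add]
  rw [this, ← Abelian.Ext.mk₀_comp_mk₀]
  exact ShortComplex.ShortExact.extClass_comp_assoc _ _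

theorem comp_eq_comp_sub {C : Type*} [Category C] [Preadditive C] {B O P Q T G : C} {u : B ⟶ O}
    {a : O ⟶ P} {b : O ⟶ Q} {z : O ⟶ G} {p : P ⟶ G} {q : Q ⟶ G} {t : B ⟶ T} {k ka kb : T ⟶ G}
    (hz : u ≫ z = t ≫ k) (ha : (u ≫ a) ≫ p = t ≫ ka) (hb : (u ≫ b) ≫ q = t ≫ kb) (h : k = kb - ka) :
    u ≫ z = u ≫ (b ≫ q - a ≫ p) := by
  rw [hz, Preadditive.comp_sub, ← Category.assoc, ← Category.assoc, ha, hb, h, Preadditive.comp_sub]

/-- Cocycles split if finite étale covers of the union have sections. -/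
theorem exists_split_hom {W U V : X.Opens} (hU : U ≤ W) (hV : V ≤ W)
    (hW : ∀ x ∈ W, x ∈ U ∨ x ∈ V) {M₀ : Type u} [AddCommGroup M₀] [Finite M₀] (e : M₀ ≃+ M)
    (hsec : ∀ (Y : Scheme.{u}) (φ : Y ⟶ (W : Scheme.{u})), IsFinite φ → Etale φ → Surjective φ →
      ∃ s : (W : Scheme.{u}) ⟶ Y, s ≫ φ = 𝟙 _)
    (z : ZO (U ⊓ V) ⟶ constAb M X) : ∃ (φa : ZO U ⟶ constAb M X) (φb : ZO V ⟶ constAb M X),
      z = gLE (inf_le_right : U ⊓ V ≤ V) ≫ φb - gLE (inf_le_left : U ⊓ V ≤ U) ≫ φa := by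
  classical
  obtain ⟨c, hc⟩ := exists_fun M z
  haveI : Finite M := Finite.of_equiv M₀ e.toEquiv
  let S := (W : Scheme.{u})
  obtain ⟨a, b, ha, hb, hab⟩ := exists_sub_eq (Z := S) (U := W.ι ⁻¹ᵁ U) (V := W.ι ⁻¹ᵁ V) hsec
    (fun x => hW x.1 x.2) (fun x : S => e.symm (c x.1)) (fun x hx => by
      obtain ⟨B, hxB, -, hB⟩ := hc x.1 hx
      exact ⟨W.ι ⁻¹ᵁ B, hxB, fun y hy _ => congrArg e.symm (hB y.1 hy)⟩)
  let a' : X → M := fun x => if h : x ∈ W then e (a ⟨x, h⟩) else 0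
  let b' : X → M := fun x => if h : x ∈ W then e (b ⟨x, h⟩) else 0
  have ha' : ∀ x ∈ U, ∃ B : X.Opens, x ∈ B ∧ ∀ y ∈ B, y ∈ U → a' y = a' x := fun x hx => by
    obtain ⟨B, hxB, hB⟩ := ha ⟨x, hU hx⟩ hx
    refine ⟨W.ι ''ᵁ B, ⟨⟨x, hU hx⟩, hxB, rfl⟩, ?_⟩
    rintro _ ⟨y, hy, rfl⟩ hyU
    show a' y.1 = _
    simp only [a', dif_pos (hU hx), dif_pos (show y.1 ∈ W from y.2)]
    exact congrArg e (hB y hy hyU)
  have hb' : ∀ x ∈ V, ∃ B : X.Opens, x ∈ B ∧ ∀ y ∈ B, y ∈ V → b' y = b' x := fun x hx => by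
    obtain ⟨B, hxB, hB⟩ := hb ⟨x, hV hx⟩ hx
    refine ⟨W.ι ''ᵁ B, ⟨⟨x, hV hx⟩, hxB, rfl⟩, ?_⟩
    rintro _ ⟨y, hy, rfl⟩ hyV
    show b' y.1 = _
    simp only [b', dif_pos (hV hx), dif_pos (show y.1 ∈ W from y.2)]
    exact congrArg e (hB y hy hyV)
  obtain ⟨φa, hφa⟩ := exists_hom M (A := U) a' (Set.toFinite _) ha'
  obtain ⟨φb, hφb⟩ := exists_hom M (A := V) b' (Set.toFinite _) hb'
  refine ⟨φa, φb, ?_⟩
  refine hom_ext_ZO _ _ fun x hx => ?_
  obtain ⟨B₀, hxB₀, hB₀, -⟩ := hc x hx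
  obtain ⟨Ba, hxBa, hBa⟩ := ha' x hx.1
  obtain ⟨Bb, hxBb, hBb⟩ := hb' x hx.2
  let B : X.Opens := B₀ ⊓ (Ba ⊓ Bb)
  obtain ⟨hB, ec⟩ := hB₀.mono M (inf_le_left : B ≤ B₀)
  obtain ⟨hBU, ea⟩ := hφa B (hB.trans inf_le_left) (a' x) fun y hy => hBa y hy.2.1 (hB hy).1
  obtain ⟨hBV, eb⟩ := hφb B (hB.trans inf_le_right) (b' x) fun y hy => hBb y hy.2.2 (hB hy).2
  refine ⟨B, hB, ⟨hxB₀, hxBa, hxBb⟩, ?_⟩
  refine comp_eq_comp_sub ec ((congrArg (fun k => k ≫ φa) (gLE_comp hB inf_le_left)).trans ea)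
    ((congrArg (fun k => k ≫ φb) (gLE_comp hB inf_le_right)).trans eb) ?_
  refine Eq.trans ?_ (kap_sub (b' x) (a' x))
  apply congrArg (kap M)
  have := congrArg e (hab ⟨x, hU hx.1⟩ hx.1 hx.2)
  rw [map_sub, AddEquiv.apply_symm_apply] at this
  simp only [a', b', dif_pos (hU hx.1)]
  exact this.symm

/-- The key step: two-open cocycles split if finite étale covers of the union have sections. -/
theorem eq_zero_of_sections {W U V : X.Opens} (hU : U ≤ W) (hV : V ≤ W)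
    (hW : ∀ x ∈ W, x ∈ U ∨ x ∈ V) {M₀ : Type u} [AddCommGroup M₀] [Finite M₀] (e : M₀ ≃+ M)
    (hsec : ∀ (Y : Scheme.{u}) (φ : Y ⟶ (W : Scheme.{u})), IsFinite φ → Etale φ → Surjective φ →
      ∃ s : (W : Scheme.{u}) ⟶ Y, s ≫ φ = 𝟙 _)
    (ξ : Abelian.Ext (ZO W) (constAb M X) 1) (h₁ : resE _ hU ξ = 0) (h₂ : resE _ hV ξ = 0) : ξ = 0 := by
  obtain ⟨z₁, hz⟩ := exists_of_restrict_eq_zero hU hV (inf_le_left : U ⊓ V ≤ U) inf_le_right
    (fun x a b => ⟨a, b⟩) hW (constAb M X) ξ h₁ h₂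
  obtain ⟨z, rfl⟩ := (Abelian.Ext.mk₀_bijective _ _).2 z₁
  obtain ⟨φa, φb, rfl⟩ := exists_split_hom hU hV hW e hsec z
  rw [← hz]
  exact extClass_comp_eq_zero (shortExact_seqRel hU hV (inf_le_left : U ⊓ V ≤ U) inf_le_right
    (fun x a b => ⟨a, b⟩) hW) φa φb

theorem subsingleton_Hq {R : Type u} [CommRing R] [IsAffine X] [IsIntegral X]
    (hX : ∀ x : X, EtCoh.IsStrictlyHenselianLocalRing (X.presheaf.stalk x))
    (hR : ∀ x : Spec (CommRingCat.of R),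
      EtCoh.IsStrictlyHenselianLocalRing ((Spec (CommRingCat.of R)).presheaf.stalk x))
    (i : Spec (CommRingCat.of R) ⟶ X) [IsClosedImmersion i]
    {M₀ : Type u} [AddCommGroup M₀] [Finite M₀] (e : M₀ ≃+ M) (n : ℕ) :
    Subsingleton (EtCoh.H (Spec (CommRingCat.of R)) (constAb M (Spec (CommRingCat.of R))) (n + 1)) := by
  refine subsingleton_H (constAb M (Spec (CommRingCat.of R))) hR (fun f g h₁ h₂ ξ e₁ e₂ => ?_) n
  refine eq_zero_of_sections h₁ h₂ (fun x hx => ?_) e (fun Y φ hf he hs => ?_) ξ e₁ e₂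
  · rw [bo_mul, bo_mul]
    exact (mem_or_mem_of_add hx).imp (fun h => ⟨h, hx⟩) fun h => ⟨h, hx⟩
  rcases isEmpty_or_nonempty ↥(bo (f + g) : Scheme.{u}) with hW | ⟨⟨w⟩⟩
  · exact ⟨(isInitialOfIsEmpty (X := (bo (f + g) : Scheme.{u}))).to Y,
      (isInitialOfIsEmpty (X := (bo (f + g) : Scheme.{u}))).hom_ext _ _⟩
  obtain ⟨-, hsurj⟩ := IsClosedImmersion.isAffine_surjective_of_isAffine i
  obtain ⟨h, hh⟩ := hsurj (f + g)
  let D : X.Opens := X.basicOpen h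
  have hD : i ⁻¹ᵁ D = bo (f + g) := (Scheme.preimage_basicOpen_top i h).trans (congrArg _ hh)
  haveI : IsAffine (D : Scheme.{u}) := (isAffineOpen_top X).basicOpen h
  haveI : Nonempty D := ⟨⟨i w.1, hD.ge w.2⟩⟩
  haveI : IsIntegral (D : Scheme.{u}) := inferInstance
  let ι : (bo (f + g) : Scheme.{u}) ⟶ (D : Scheme.{u}) :=
    (Spec (CommRingCat.of R)).homOfLE hD.ge ≫ (i ∣_ D)
  haveI : IsIso ((Spec (CommRingCat.of R)).homOfLE hD.ge) :=
    ⟨(Spec (CommRingCat.of R)).homOfLE hD.le, by simp, by simp⟩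
  haveI : IsClosedImmersion (i ∣_ D) := IsZariskiLocalAtTarget.restrict (P := @IsClosedImmersion) ‹IsClosedImmersion i› D
  haveI : IsClosedImmersion ι := inferInstance
  haveI := hf
  haveI := he
  haveI := hs
  exact Groth.Agent.EtSection.exists_closed_section ι φ (isSH_opens hX D)

end Groth.Agent.EtGabber
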