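import Groth.Agent.EtGabber.ClosedH1
import Groth.Agent.S14620

/-!
# `H¹(Z, M) = 0` for closed subschemes of affine normal schemes with separably closed function field
-/

set_option autoImplicit false

universe u

open CategoryTheory CategoryTheory.Limits AlgebraicGeometry Opposite

noncomputable section

namespace Groth.Agent.EtGabber

theorem isSH_closed {Z X : Scheme.{u}} (i : Z ⟶ X) [IsClosedImmersion i]
    (hX : ∀ x : X, EtCoh.IsStrictlyHenselianLocalRing (X.presheaf.stalk x)) (z : Z) :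
    EtCoh.IsStrictlyHenselianLocalRing (Z.presheaf.stalk z) :=
  Groth.Agent.S14620.result (i.stalkMap z).hom
    (RingHom.Finite.of_surjective _ (i.stalkMap_surjective z)) (hX _)

theorem subsingleton_Hq_closed {Z X : Scheme.{u}} [IsAffine X] [IsIntegral X]
    (hX : ∀ x : X, EtCoh.IsStrictlyHenselianLocalRing (X.presheaf.stalk x))
    (i : Z ⟶ X) [IsClosedImmersion i] (M : Type) [AddCommGroup M] [Finite M] (n : ℕ) :
    Subsingleton (EtCoh.H Z (EtCoh.const Z M) (n + 1)) := by
  obtain ⟨hZ, -⟩ := IsClosedImmersion.isAffine_surjective_of_isAffine i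
  haveI : IsClosedImmersion (Z.isoSpec.inv ≫ i) := inferInstance
  have := subsingleton_Hq (R := Γ(Z, ⊤)) hX (isSH_closed (Z.isoSpec.inv ≫ i) hX) (Z.isoSpec.inv ≫ i)
    (M₀ := ULift.{u} M) (M := ULift.{u + 1} M) (AddEquiv.ulift.trans AddEquiv.ulift.symm) n
  exact ((EtaleSite.HpullComp.HF_map_bijective (n := n + 1) (EtCore.pullConst Z.isoSpec.hom M).hom).comp
    (EtaleSite.HpullComp.Hpull_bijective_of_isIso Z.isoSpec.hom (n + 1)
      (EtCoh.const (Spec Γ(Z, ⊤)) M))).2.subsingleton

theorem subsingleton_H1_closed {Z X : Scheme.{u}} [IsAffine X] [IsIntegral X]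
    (hX : ∀ x : X, EtCoh.IsStrictlyHenselianLocalRing (X.presheaf.stalk x))
    (i : Z ⟶ X) [IsClosedImmersion i] (M : Type) [AddCommGroup M] [Finite M] :
    Subsingleton (EtCoh.H Z (EtCoh.const Z M) 1) :=
  subsingleton_Hq_closed hX i M 0

end Groth.Agent.EtGabber
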