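import Groth.Agent.EtGabber.ClosedH1Aff
import Mathlib.AlgebraicGeometry.FunctionField
import Mathlib.AlgebraicGeometry.Morphisms.Integral
import Mathlib.FieldTheory.IsAlgClosed.AlgebraicClosure
import Mathlib.RingTheory.MvPolynomial.Basic

/-!
# Affine schemes have integral covers killing constant cohomology
-/

set_option autoImplicit false

universe u

open CategoryTheory CategoryTheory.Limits AlgebraicGeometry Opposite

noncomputable section

namespace Groth.Agent.EtGabber

/-- A ring is a quotient of a polynomial ring over `ℤ`. -/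
abbrev Poly (A : Type u) := MvPolynomial A ℤ

/-- The absolute integral closure of the polynomial ring. -/
abbrev AIC (A : Type u) :=
  integralClosure (Poly A) (AlgebraicClosure (FractionRing (Poly A)))

theorem algebraMap_injective (A : Type u) :
    Function.Injective (algebraMap (Poly A) (AlgebraicClosure (FractionRing (Poly A)))) := by
  rw [IsScalarTower.algebraMap_eq (Poly A) (FractionRing (Poly A))
    (AlgebraicClosure (FractionRing (Poly A))), RingHom.coe_comp]
  exact (algebraMap (FractionRing (Poly A)) (AlgebraicClosure (FractionRing (Poly A)))).injective.comp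
    (IsFractionRing.injective (Poly A) (FractionRing (Poly A)))

theorem isFractionRing_AIC (A : Type u) :
    IsFractionRing (AIC A) (AlgebraicClosure (FractionRing (Poly A))) := by
  haveI : Algebra.IsAlgebraic (Poly A) (AlgebraicClosure (FractionRing (Poly A))) :=
    (IsFractionRing.comap_isAlgebraic_iff (A := Poly A) (K := FractionRing (Poly A))
      (C := AlgebraicClosure (FractionRing (Poly A)))).2 inferInstance
  exact integralClosure.isFractionRing_of_algebraic fun x hx =>
    algebraMap_injective A (hx.trans (map_zero _).symm)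

theorem isIntegrallyClosed_AIC (A : Type u) : IsIntegrallyClosed (AIC A) := by
  haveI := isFractionRing_AIC A
  exact (isIntegrallyClosed_iff_isIntegrallyClosedIn (AlgebraicClosure (FractionRing (Poly A)))).2
    inferInstance

theorem surjective_specMap (A : Type u) :
    Surjective (Spec.map (CommRingCat.ofHom (algebraMap (Poly A) (AIC A)))) := by
  have hinj : Function.Injective (algebraMap (Poly A) (AIC A)) := fun a b h =>
    algebraMap_injective A (congrArg (fun z : AIC A => (z : AlgebraicClosure (FractionRing (Poly A)))) h)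
  refine ⟨fun p => ?_⟩
  obtain ⟨Q, hQ, hQP⟩ := Ideal.exists_ideal_over_prime_of_isIntegral_of_isDomain (S := AIC A)
    (p : PrimeSpectrum (Poly A)).asIdeal
    ((RingHom.injective_iff_ker_eq_bot (algebraMap (Poly A) (AIC A))).1 hinj ▸ bot_le)
  exact ⟨(⟨Q, hQ⟩ : PrimeSpectrum (AIC A)), PrimeSpectrum.ext hQP⟩

theorem isSepClosed_functionField (R : CommRingCat.{u}) [IsDomain R] (L : Type u) [Field L] [IsAlgClosed L]
    (φ : R →+* L) (h : letI := φ.toAlgebra; IsFractionRing R L) :
    IsSepClosed (Spec R).functionField := by
  letI := φ.toAlgebra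
  haveI := h
  haveI : IsAlgClosed (Spec R).functionField :=
    IsAlgClosed.of_ringEquiv L _ (IsLocalization.algEquiv (nonZeroDivisors R) L (Spec R).functionField).toRingEquiv
  infer_instance

theorem exists_killing_cover (X : Scheme.{u}) [IsAffine X] :
    ∃ (X' : Scheme.{u}) (π : X' ⟶ X) (_ : IsIntegralHom π) (_ : Surjective π),
      ∀ (Z' : Scheme.{u}) (i : Z' ⟶ X') (_ : IsClosedImmersion i)
        (M : Type) (_ : AddCommGroup M) (_ : Finite M) (q : ℕ), 1 ≤ q →
        Subsingleton (EtCoh.H Z' (EtCoh.const Z' M) q) := by
  let A : CommRingCat.{u} := Γ(X, ⊤)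
  let P := CommRingCat.of (Poly A)
  let B := CommRingCat.of (AIC A)
  let q : P ⟶ A := CommRingCat.ofHom (MvPolynomial.eval₂Hom (Int.castRingHom A) id)
  have hq : Function.Surjective q.hom := fun a =>
    ⟨MvPolynomial.X a, MvPolynomial.eval₂Hom_X' _ _ _⟩
  let ι : P ⟶ B := CommRingCat.ofHom (algebraMap (Poly A) (AIC A))
  have hint : ι.hom.IsIntegral :=
    algebraMap_isIntegral_iff.2 (inferInstanceAs (Algebra.IsIntegral (Poly A) (AIC A)))
  haveI : IsClosedImmersion (Spec.map q) := IsClosedImmersion.spec_of_surjective q hq
  haveI : IsIntegralHom (Spec.map ι) := IsIntegralHom.SpecMap_iff.2 hint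
  haveI : Surjective (Spec.map ι) := surjective_specMap A
  let π : pullback (Spec.map ι) (Spec.map q) ⟶ X := pullback.snd _ _ ≫ X.isoSpec.inv
  haveI : IsDomain (AIC A) := inferInstance
  haveI := isIntegrallyClosed_AIC A
  haveI : IsIntegral (Spec B) := inferInstance
  refine ⟨_, π, inferInstance, inferInstance, fun Z' i hi M _ _ n hn => ?_⟩
  obtain ⟨k, rfl⟩ : ∃ k, n = k + 1 := ⟨n - 1, by omega⟩
  haveI := isFractionRing_AIC A
  haveI : IsDomain B := inferInstanceAs (IsDomain (AIC A))
  haveI : IsSepClosed (Spec B).functionField :=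
    isSepClosed_functionField B (AlgebraicClosure (FractionRing (Poly A))) (algebraMap (AIC A) _)
      (isFractionRing_AIC A)
  exact subsingleton_Hq_closed (X := Spec B) (EtZarFlasque.forall_isSH fun x => by
      letI : Algebra (AIC A) ((Spec B).presheaf.stalk x) := StructureSheaf.stalkAlgebra (AIC A) x
      haveI : IsLocalization.AtPrime ((Spec B).presheaf.stalk x) (x : PrimeSpectrum (AIC A)).asIdeal :=
        StructureSheaf.IsLocalization.to_stalk (AIC A) x
      exact isIntegrallyClosed_of_isLocalization _ (x : PrimeSpectrum (AIC A)).asIdeal.primeCompl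
        (Ideal.primeCompl_le_nonZeroDivisors _))
    (i ≫ pullback.fst (Spec.map ι) (Spec.map q)) M k

end Groth.Agent.EtGabber
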