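import Groth.Agent.EtMV.Opens
import Groth.Agent.EtSection.SH
import Groth.Agent.EtaleSite.Clopen
import Groth.Agent.WEtale.Local

/-!
# Classes of positive degree vanish Zariski locally, strictly henselian local rings
-/

set_option autoImplicit false

universe u

open CategoryTheory CategoryTheory.Limits AlgebraicGeometry Opposite

noncomputable section

namespace Groth.Agent.EtGabber

open Groth.Agent.EtaleSite Groth.Agent.EtMV

variable {X : Scheme.{u}}

theorem res_res (F : EtCoh.Ab X) {T U V : X.Etale} (a : T ⟶ U) (b : U ⟶ V) {c : T ⟶ V}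
    (h : a ≫ b = c) (s : F.obj.obj (op V)) :
    F.obj.map a.op (F.obj.map b.op s) = F.obj.map c.op s := by
  rw [← ConcreteCategory.comp_apply, ← Functor.map_comp, ← op_comp, h]

/-- Global sections as maps from `ℤ`, compatibility with inverse image. -/
theorem evTop_pullConst {B : Scheme.{u}} (f : B ⟶ X) {G : EtCoh.Ab X}
    (a : EtCoh.const X ℤ ⟶ G) :
    Flasque.evTop ((EtCoh.pull f).obj G) ((EtCore.pullConst f ℤ).inv ≫ (EtCoh.pull f).map a) =
      ((EtCoh.pull f).obj G).obj.map (EtCore.bcTopIso f).inv.op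
        (((EtCoh.pullPushAdj f).unit.app G).hom.app (op (EtCoh.top X)) (Flasque.evTop G a)) := by
  have h := ConcreteCategory.congr_hom (HpullComp.pullConst_homEquiv f
    (AddCommGrpCat.of (ULift.{u + 1} ℤ)) ((EtCoh.pull f).map a)) (ULift.up 1)
  refine h.trans ?_
  refine congrArg (((EtCoh.pull f).obj G).obj.map (EtCore.bcTopIso f).inv.op) ?_
  have e : (EtCoh.pullPushAdj f).homEquiv _ _ ((EtCoh.pull f).map a) =
      a ≫ (EtCoh.pullPushAdj f).unit.app G := by
    rw [Adjunction.homEquiv_unit]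
    exact ((EtCoh.pullPushAdj f).unit.naturality a).symm
  have h' := Flasque.evTop_comp a ((EtCoh.pullPushAdj f).unit.app G)
  exact (congrArg (fun z => Flasque.evTop ((EtCoh.push f).obj ((EtCoh.pull f).obj G)) z) e).trans h'

/-- Over strictly henselian local rings, maps out of `ℤ` lift to epimorphisms Zariski locally. -/
theorem exists_lift_const (hX : ∀ x : X, EtCoh.IsStrictlyHenselianLocalRing (X.presheaf.stalk x))
    {G' G : EtCoh.Ab X} (p : G' ⟶ G) [Epi p] (a : EtCoh.const X ℤ ⟶ G) (x : X) :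
    ∃ D : X.Opens, x ∈ D ∧ ∀ {B : Scheme.{u}} (f : B ⟶ X), Set.range f ⊆ D →
      ∃ ψ : EtCoh.const B ℤ ⟶ (EtCoh.pull f).obj G',
        ψ ≫ (EtCoh.pull f).map p = (EtCore.pullConst f ℤ).inv ≫ (EtCoh.pull f).map a := by
  let T := EtCoh.top X
  have : Sheaf.IsLocallySurjective p := (Sheaf.isLocallySurjective_iff_epi' _ p).2 inferInstance
  obtain ⟨V, h, v, ⟨s, hs⟩, hv⟩ := exists_of_mem_topology
    (Presheaf.imageSieve_mem X.smallEtaleTopology p.hom (Flasque.evTop G a : G.obj.obj (op T))) x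
  let w : V.left ⟶ X := V.hom
  haveI : Etale w := V.prop
  have hw : h.left = w := (Category.comp_id _).symm.trans (MorphismProperty.Over.w h)
  obtain ⟨D, σ, hxD, hσ, -⟩ := Groth.Agent.EtSection.exists_section_of_sh w v (hX _)
  refine ⟨D, by rw [← hv, hw]; exact hxD, fun {B} f hf => ?_⟩
  let PD : X.Etale := Scheme.Etale.mk D.ι
  let σ' : PD ⟶ V := MorphismProperty.Over.homMk σ hσ
  let t : G'.obj.obj (op PD) := G'.obj.map σ'.op s
  let i : PD ⟶ T := MorphismProperty.Over.homMk D.ι (Category.comp_id _)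
  have ht : p.hom.app (op PD) t = G.obj.map i.op (Flasque.evTop G a) := by
    refine (NatTrans.naturality_apply p.hom σ'.op s).trans ?_
    rw [hs]
    exact res_res G σ' h ((EtCore.topIsTerminal X).hom_ext _ _) _
  have hr : Set.range f ⊆ Set.range D.ι := by rwa [Scheme.Opens.range_ι]
  let l₀ : B ⟶ (D : Scheme.{u}) := IsOpenImmersion.lift D.ι f hr
  have hl₀ : l₀ ≫ D.ι = f := IsOpenImmersion.lift_fac _ _ hr
  let e : EtCoh.top B ⟶ (EtCoh.bc f).obj PD := MorphismProperty.Over.homMk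
    (pullback.lift l₀ (𝟙 B) (hl₀.trans (Category.id_comp f).symm))
    (pullback.lift_snd _ _ _)
  obtain ⟨ψ, hψ⟩ := (Flasque.evTop_bijective ((EtCoh.pull f).obj G')).2
    (((EtCoh.pull f).obj G').obj.map e.op (((EtCoh.pullPushAdj f).unit.app G').hom.app (op PD) t))
  refine ⟨ψ, (Flasque.evTop_bijective ((EtCoh.pull f).obj G)).1 ?_⟩
  rw [Flasque.evTop_comp, hψ, evTop_pullConst, NatTrans.naturality_apply]
  have hn := congrArg (fun k : G' ⟶ (EtCoh.push f).obj ((EtCoh.pull f).obj G) => k.hom.app (op PD) t)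
    ((EtCoh.pullPushAdj f).unit.naturality p)
  refine (congrArg (fun z => ((EtCoh.pull f).obj G).obj.map e.op z)
    (hn.symm.trans (congrArg (((EtCoh.pullPushAdj f).unit.app G).hom.app (op PD)) ht))).trans ?_
  refine (congrArg (fun z => ((EtCoh.pull f).obj G).obj.map e.op z)
    (NatTrans.naturality_apply ((EtCoh.pullPushAdj f).unit.app G).hom i.op _)).trans ?_
  exact res_res ((EtCoh.pull f).obj G) e ((EtCoh.bc f).map i)
    ((EtCore.bcTopIsTerminal f).hom_ext _ _) _

/-- Open subschemes inherit strictly henselian local rings. -/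
theorem isSH_opens (hX : ∀ x : X, EtCoh.IsStrictlyHenselianLocalRing (X.presheaf.stalk x))
    (A : X.Opens) (a : (A : Scheme.{u})) :
    EtCoh.IsStrictlyHenselianLocalRing ((A : Scheme.{u}).presheaf.stalk a) :=
  Groth.Agent.WEtale.Local.strictlyHenselian_of_ringEquiv
    (asIso (A.ι.stalkMap a)).commRingCatIsoToRingEquiv (hX _)

/-- Classes of positive degree on opens vanish locally. -/
theorem exists_nhd_eq_zero (hX : ∀ x : X, EtCoh.IsStrictlyHenselianLocalRing (X.presheaf.stalk x)) :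
    ∀ (n : ℕ) (F : EtCoh.Ab X) (A : X.Opens) (ξ : Abelian.Ext (ZO A) F (n + 1)) (x : X), x ∈ A →
      ∃ (B : X.Opens) (h : B ≤ A), x ∈ B ∧ (Abelian.Ext.mk₀ (gLE h)).comp ξ (zero_add _) = 0 := by
  intro n
  induction n with
  | zero =>
    intro F A ξ x hx
    obtain ⟨Q, I, i, p, hip, hS, hI, hsurj⟩ := exists_extClass F
    obtain ⟨y, rfl⟩ := hsurj _ 0 ξ
    obtain ⟨φ, rfl⟩ := (Abelian.Ext.mk₀_bijective _ _).2 y
    haveI : Epi p := hS.epi_g
    haveI : Epi ((EtCoh.pull A.ι).map p) := (hS.map_of_exact (EtCoh.pull A.ι)).epi_g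
    obtain ⟨D, hxD, hD⟩ := exists_lift_const (isSH_opens hX A) ((EtCoh.pull A.ι).map p)
      (((EtSupp.extPullAdj A.ι).homEquiv _ _) φ) ⟨x, hx⟩
    have hle : A.ι ''ᵁ D ≤ A := by
      rintro _ ⟨z, -, rfl⟩
      exact z.2
    obtain ⟨ψ, hψ⟩ := hD (X.homOfLE hle) (by
      rintro _ ⟨b, rfl⟩
      obtain ⟨z, hz, e⟩ := b.2
      have : X.homOfLE hle b = z := Subtype.ext ((Scheme.homOfLE_apply hle b).trans e.symm)
      rw [this]
      exact hz)
    refine ⟨A.ι ''ᵁ D, hle, ⟨⟨x, hx⟩, hxD, rfl⟩, ?_⟩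
    let ψ' : ZO (A.ι ''ᵁ D) ⟶ I := ((EtSupp.extPullAdj (A.ι ''ᵁ D).ι).homEquiv _ _).symm
      (ψ ≫ (via (X.homOfLE hle) A.ι (A.ι ''ᵁ D).ι (X.homOfLE_ι hle)).hom.app I)
    have key : ψ' ≫ p = gLE hle ≫ φ := by
      apply ((EtSupp.extPullAdj (A.ι ''ᵁ D).ι).homEquiv _ _).injective
      rw [Adjunction.homEquiv_naturality_right, Equiv.apply_symm_apply, gLE, homEquiv_gMap_comp,
        Category.assoc, ← NatTrans.naturality]
      refine (Category.assoc _ _ _).symm.trans ((congrArg (fun z => z ≫ _) hψ).trans (Category.assoc _ _ _))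
    rw [Abelian.Ext.mk₀_comp_mk₀_assoc]
    refine (congrArg (fun z => (Abelian.Ext.mk₀ z).comp hS.extClass (zero_add 1)) key.symm).trans ?_
    rw [← Abelian.Ext.mk₀_comp_mk₀, Abelian.Ext.comp_assoc_of_second_deg_zero, hS.comp_extClass,
      Abelian.Ext.comp_zero]
  | succ n ih =>
    intro F A ξ x hx
    obtain ⟨Q, I, i, p, hip, hS, hI, hsurj⟩ := exists_extClass F
    obtain ⟨y, rfl⟩ := hsurj _ (n + 1) ξ
    obtain ⟨B, h, hxB, hy⟩ := ih Q A y x hx
    refine ⟨B, h, hxB, ?_⟩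
    refine (Abelian.Ext.comp_assoc _ _ _ (zero_add (n + 1)) rfl (by omega)).symm.trans ?_
    rw [hy, Abelian.Ext.zero_comp]

end Groth.Agent.EtGabber
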