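import Groth.Agent.EtGabber.Local
import Mathlib.AlgebraicGeometry.AffineScheme

/-!
# Gabber's criterion
-/

set_option autoImplicit false

universe u

open CategoryTheory CategoryTheory.Limits AlgebraicGeometry Opposite

noncomputable section

namespace Groth.Agent.EtGabber

open Groth.Agent.EtaleSite Groth.Agent.EtMV

variable {X : Scheme.{u}} (F : EtCoh.Ab X)

/-- Restriction of a class to a smaller open. -/
abbrev resE {A B : X.Opens} (h : A ≤ B) {n : ℕ} (e : Abelian.Ext (ZO B) F n) :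
    Abelian.Ext (ZO A) F n :=
  (Abelian.Ext.mk₀ (gLE h)).comp e (zero_add n)

theorem resE_resE {A B C : X.Opens} (h : A ≤ B) (h' : B ≤ C) {n : ℕ} (e : Abelian.Ext (ZO C) F n) :
    resE F h (resE F h' e) = resE F (h.trans h') e := by
  rw [resE, resE, resE, Abelian.Ext.mk₀_comp_mk₀_assoc, gLE_comp]

theorem resE_eq_zero_of_le {A B C : X.Opens} (h : A ≤ B) (h' : B ≤ C) {n : ℕ}
    {e : Abelian.Ext (ZO C) F n} (he : resE F h' e = 0) : resE F (h.trans h') e = 0 := by
  rw [← resE_resE F h h' e, he]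
  exact Abelian.Ext.comp_zero _ _ _ _ _

theorem resE_refl {A : X.Opens} {n : ℕ} (e : Abelian.Ext (ZO A) F n) : resE F (le_refl A) e = e := by
  have h : gLE (le_refl A) = 𝟙 (ZO A) := by
    rw [← cancel_mono (cMap A.ι), gLE_cMap, Category.id_comp]
  rw [resE, h, Abelian.Ext.mk₀_id_comp]

theorem eq_zero_of_isEmpty {A : X.Opens} (h : ∀ x, x ∉ A) {n : ℕ} (e : Abelian.Ext (ZO A) F n) :
    e = 0 := by
  rw [← Abelian.Ext.mk₀_id_comp e, (isZero_ZO_of_isEmpty h).eq_of_src (𝟙 _) 0, Abelian.Ext.mk₀_zero,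
    Abelian.Ext.zero_comp]

section Affine

variable {R : Type u} [CommRing R]

/-- The ring of global functions. -/
abbrev Gam (R : Type u) [CommRing R] := Γ((Spec (CommRingCat.of R)), ⊤)

/-- Basic opens. -/
abbrev bo (f : Gam R) : (Spec (CommRingCat.of R)).Opens := (Spec (CommRingCat.of R)).basicOpen f

theorem bo_mul (f g : Gam R) : bo (f * g) = bo f ⊓ bo g := Scheme.basicOpen_mul _ f g

theorem mem_bo_iff (f : Gam R) (p : PrimeSpectrum R) :
    (show Spec (CommRingCat.of R) from p) ∈ bo f ↔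
      (Scheme.ΓSpecIso (CommRingCat.of R)).hom f ∉ p.asIdeal := by
  rw [bo, basicOpen_eq_of_affine']
  exact PrimeSpectrum.mem_basicOpen _ _

theorem exists_pow_mem (I : Ideal (Gam R)) (h : Gam R)
    (hI : ∀ x ∈ bo h, ∃ f ∈ I, x ∈ bo f) : ∃ k : ℕ, h ^ k ∈ I := by
  show h ∈ I.radical
  rw [Ideal.radical_eq_sInf, Submodule.mem_sInf]
  rintro P ⟨hIP, hP⟩
  by_contra hh
  haveI := hP
  let e : Gam R ≃+* R := (Scheme.ΓSpecIso (CommRingCat.of R)).commRingCatIsoToRingEquiv
  let p : PrimeSpectrum R := ⟨Ideal.comap e.symm.toRingHom P, inferInstance⟩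
  have hp : ∀ f, e f ∈ p.asIdeal ↔ f ∈ P := fun f => by
    show e.symm (e f) ∈ P ↔ _
    rw [RingEquiv.symm_apply_apply]
  obtain ⟨f, hf, hfp⟩ := hI p ((mem_bo_iff h p).2 fun hm => hh ((hp h).1 hm))
  exact (mem_bo_iff f p).1 hfp ((hp f).2 (hIP hf))

variable (G : EtCoh.Ab (Spec (CommRingCat.of R)))
  (hR : ∀ x : Spec (CommRingCat.of R),
    EtCoh.IsStrictlyHenselianLocalRing ((Spec (CommRingCat.of R)).presheaf.stalk x))
  (H1 : ∀ (f g : Gam R) (h₁ : bo (f * (f + g)) ≤ bo (f + g)) (h₂ : bo (g * (f + g)) ≤ bo (f + g))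
    (ξ : Abelian.Ext (ZO (bo (f + g))) G 1), resE G h₁ ξ = 0 → resE G h₂ ξ = 0 → ξ = 0)

theorem mem_or_mem_of_add {f g : Gam R} {x : Spec (CommRingCat.of R)} (hx : x ∈ bo (f + g)) :
    x ∈ bo f ∨ x ∈ bo g := by
  rw [mem_bo_iff _ x] at hx
  by_contra h
  push Not at h
  rw [mem_bo_iff _ x, mem_bo_iff _ x, not_not, not_not] at h
  exact hx (by rw [map_add]; exact Ideal.add_mem _ h.1 h.2)

include hR H1 in
theorem subsingleton_Ext : ∀ (n : ℕ) (h : Gam R), Subsingleton (Abelian.Ext (ZO (bo h)) G (n + 1)) := by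
  intro n
  induction n with
  | zero => exact key 0 (fun f g U V hU hV hUle hVle ζ h₁ h₂ => by
      subst hU hV
      exact H1 f g hUle hVle ζ h₁ h₂)
  | succ n ih => exact key (n + 1) (fun f g U V hU hV hUle hVle ζ h₁ h₂ => by
      have hcov : ∀ x ∈ bo (f + g), x ∈ U ∨ x ∈ V := by
        intro x hx
        subst hU hV
        rw [bo_mul, bo_mul]
        exact (mem_or_mem_of_add hx).imp (fun h => ⟨h, hx⟩) fun h => ⟨h, hx⟩
      have hO : bo (f * (f + g) * (g * (f + g))) = U ⊓ V := by rw [bo_mul, hU, hV]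
      obtain ⟨z, hz⟩ := exists_of_restrict_eq_zero hUle hVle (hO.le.trans inf_le_left)
        (hO.le.trans inf_le_right) (fun x a b => hO.ge (show x ∈ U ⊓ V from ⟨a, b⟩)) hcov G ζ h₁ h₂
      have := ih (f * (f + g) * (g * (f + g)))
      rw [← hz, Subsingleton.elim z 0]
      exact Abelian.Ext.comp_zero _ _ _ _ _)
where
  key (n : ℕ) (H : ∀ (f g : Gam R) (U V : (Spec (CommRingCat.of R)).Opens)
      (_ : bo (f * (f + g)) = U) (_ : bo (g * (f + g)) = V) (hU : U ≤ bo (f + g))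
      (hV : V ≤ bo (f + g)) (ζ : Abelian.Ext (ZO (bo (f + g))) G (n + 1)),
      resE G hU ζ = 0 → resE G hV ζ = 0 → ζ = 0) (h : Gam R) :
      Subsingleton (Abelian.Ext (ZO (bo h)) G (n + 1)) := by
    refine subsingleton_of_forall_eq 0 fun ξ => ?_
    have hle : ∀ f, bo (f * h) ≤ bo h := fun f => (bo_mul f h).le.trans inf_le_right
    let I : Ideal (Gam R) :=
      { carrier := {f | resE G (hle f) ξ = 0}
        zero_mem' := eq_zero_of_isEmpty G (fun x hx => by
          rw [zero_mul, bo, Scheme.basicOpen_zero] at hx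
          exact hx) _
        smul_mem' := fun r f hf => by
          have hs : bo (r * f * h) ≤ bo (f * h) := by
            rw [mul_assoc, bo_mul r]
            exact inf_le_right
          exact resE_eq_zero_of_le G hs (hle f) hf
        add_mem' := fun {f g} hf hg => by
          show resE G (hle (f + g)) ξ = 0
          have e : bo ((f + g) * h) = bo (f * h + g * h) := by rw [add_mul]
          have h₁ : bo (f * h * (f * h + g * h)) ≤ bo (f * h) := (bo_mul _ _).le.trans inf_le_left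
          have h₂ : bo (g * h * (f * h + g * h)) ≤ bo (g * h) := (bo_mul _ _).le.trans inf_le_left
          have hs : bo (f * h + g * h) ≤ bo h := e.ge.trans (hle (f + g))
          have hz : resE G hs ξ = 0 := by
            refine H (f * h) (g * h) _ _ rfl rfl ((bo_mul _ _).le.trans inf_le_right)
              ((bo_mul _ _).le.trans inf_le_right) _ ?_ ?_
            · rw [resE_resE]
              exact resE_eq_zero_of_le G h₁ (hle f) hf
            · rw [resE_resE]
              exact resE_eq_zero_of_le G h₂ (hle g) hg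
          exact resE_eq_zero_of_le G e.le hs hz }
    obtain ⟨k, hk⟩ := exists_pow_mem I h fun x hx => by
      obtain ⟨B, hB, hxB, hξ⟩ := exists_nhd_eq_zero hR n G (bo h) ξ x hx
      obtain ⟨_, ⟨_, ⟨f, rfl⟩, rfl⟩, hxf, hfB⟩ :=
        (isBasis_basicOpen (Spec (CommRingCat.of R))).exists_subset_of_mem_open hxB B.2
      refine ⟨f, ?_, hxf⟩
      have hs : bo (f * h) ≤ B := (bo_mul f h).le.trans (inf_le_left.trans hfB)
      exact resE_eq_zero_of_le G hs hB hξ
    have hk' : resE G (hle (h ^ k)) ξ = 0 := hk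
    have hsup : bo h ≤ bo (h ^ k * h) := fun x hx => by
      rw [mem_bo_iff _ x] at hx ⊢
      rw [← pow_succ, map_pow]
      exact fun hm => hx (x.2.mem_of_pow_mem _ hm)
    rw [← resE_refl G ξ]
    exact resE_eq_zero_of_le G hsup (hle (h ^ k)) hk'

include hR H1 in
theorem subsingleton_H (n : ℕ) : Subsingleton (EtCoh.H (Spec (CommRingCat.of R)) G (n + 1)) := by
  have := subsingleton_Ext G hR H1 n 1
  have hle : (⊤ : (Spec (CommRingCat.of R)).Opens) ≤ bo 1 := by
    rw [bo, Scheme.basicOpen_one]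
  haveI := isIso_cMap_top (X := Spec (CommRingCat.of R))
  refine subsingleton_of_forall_eq 0 fun e => ?_
  have h₀ : (Abelian.Ext.mk₀ (cMap (⊤ : (Spec (CommRingCat.of R)).Opens).ι)).comp e (zero_add _) = 0 := by
    rw [← gLE_cMap hle, ← Abelian.Ext.mk₀_comp_mk₀_assoc,
      Subsingleton.elim ((Abelian.Ext.mk₀ (cMap (bo (1 : Gam R)).ι)).comp e (zero_add _)) 0,
      Abelian.Ext.comp_zero]
  have h₁ := congrArg (fun z => (Abelian.Ext.mk₀ (inv (cMap (⊤ : (Spec (CommRingCat.of R)).Opens).ι))).comp z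
    (zero_add _)) h₀
  simp only [Abelian.Ext.mk₀_comp_mk₀_assoc, IsIso.inv_hom_id, Abelian.Ext.mk₀_id_comp,
    Abelian.Ext.comp_zero] at h₁
  exact h₁

/-- The hypothesis of the criterion in `Ext` form. -/
theorem H1_of_HpullVia (f g : Gam R) (h₁ : bo (f * (f + g)) ≤ bo (f + g))
    (h₂ : bo (g * (f + g)) ≤ bo (f + g))
    (hker : ∀ ξ : EtCoh.H ↑(bo (f + g)) ((EtCoh.pull (bo (f + g)).ι).obj G) 1,
      EtCore.HpullVia ((Spec (CommRingCat.of R)).homOfLE h₁) (bo (f + g)).ι (bo (f * (f + g))).ι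
        ((Spec (CommRingCat.of R)).homOfLE_ι h₁) G 1 ξ = 0 →
      EtCore.HpullVia ((Spec (CommRingCat.of R)).homOfLE h₂) (bo (f + g)).ι (bo (g * (f + g))).ι
        ((Spec (CommRingCat.of R)).homOfLE_ι h₂) G 1 ξ = 0 → ξ = 0)
    (ξ : Abelian.Ext (ZO (bo (f + g))) G 1) (e₁ : resE G h₁ ξ = 0) (e₂ : resE G h₂ ξ = 0) : ξ = 0 := by
  obtain ⟨x, rfl⟩ := (toE_bijective (bo (f + g)).ι G 1).2 ξ
  rw [hker x ((toE_bijective (bo (f * (f + g))).ι G 1).1
      (((toE_HpullVia _ _ _ _ 1 G x).trans e₁).trans (map_zero _).symm))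
    ((toE_bijective (bo (g * (f + g))).ι G 1).1
      (((toE_HpullVia _ _ _ _ 1 G x).trans e₂).trans (map_zero _).symm)), map_zero]

end Affine

end Groth.Agent.EtGabber
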